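import Mathlib
import Groth.Agent.S0544

/-!
# The completion of a local endomorphism with artinian closed fibre
-/

set_option autoImplicit false
set_option maxHeartbeats 1000000
set_option linter.style.haveILetI false
set_option backward.isDefEq.respectTransparency false
set_option backward.isDefEq.respectTransparency.types false

universe u

open IsLocalRing

namespace Groth.Agent.EndoFin5

/-- Complete Nakayama for a ring map with a finite set of representatives of the closed fibre. -/
theorem finite_and_epi {B W : Type u} [CommRing B] [CommRing W] (ψ : B →+* W) (M : Ideal B) [IsAdicComplete M B]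
    (N : Ideal W) [IsHausdorff N W] (hψ : M.map ψ ≤ N) {T : Type u} [Finite T] (r : T → W)
    (key : ∀ x, ∃ t, x - r t ∈ M.map ψ) :
    ψ.Finite ∧ ∀ {C : Type u} [CommRing C] (a b : W →+* C),
      a.comp ψ = b.comp ψ → (∀ t, a (r t) = b (r t)) → a = b := by
  letI := ψ.toAlgebra
  have hJ : ∀ x ∈ M.map ψ, x ∈ (M • ⊤ : Submodule B W) := by
    intro x hx
    rw [Ideal.smul_top_eq_map]
    exact hx
  haveI : IsHausdorff M W := ⟨fun x hx => IsHausdorff.haus (I := N) inferInstance x fun n => by
    have h := hx n
    rw [SModEq.zero] at h ⊢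
    rw [Ideal.smul_top_eq_map, Submodule.restrictScalars_mem, Ideal.map_pow] at h
    rw [Ideal.smul_eq_mul, Ideal.mul_top]
    exact Ideal.pow_right_mono hψ n h⟩
  have hB : Module.Finite B W := by
    refine S0544.result B M W ?_
    haveI : Finite (W ⧸ (M • ⊤ : Submodule B W)) := Finite.of_surjective
      (fun t => Submodule.Quotient.mk (r t)) fun z => by
      obtain ⟨x, rfl⟩ := Submodule.Quotient.mk_surjective _ z
      obtain ⟨t, ht⟩ := key x
      exact ⟨t, ((Submodule.Quotient.eq _).2 (hJ _ ht)).symm⟩
    infer_instance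
  refine ⟨hB, fun {C} _ a b h1 h2 => ?_⟩
  let E : Submodule B W :=
    { carrier := {x | a x = b x}
      add_mem' := fun {x y} (hx : a x = b x) (hy : a y = b y) => show a (x + y) = b (x + y) by rw [map_add, map_add, hx, hy]
      zero_mem' := show a 0 = b 0 by rw [map_zero, map_zero]
      smul_mem' := fun c x (hx : a x = b x) => show a (ψ c * x) = b (ψ c * x) by
        rw [map_mul, map_mul, hx]
        exact congrArg (· * b x) (RingHom.congr_fun h1 c) }
  have hE : (⊤ : Submodule B W) ≤ E := by
    refine Submodule.le_of_le_smul_of_le_jacobson_bot (I := M) Module.Finite.fg_top (IsAdicComplete.le_jacobson_bot M) ?_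
    intro x _
    obtain ⟨t, ht⟩ := key x
    rw [← add_sub_cancel (r t) x]
    exact Submodule.add_mem_sup (h2 t) (hJ _ ht)
  exact RingHom.ext fun x => hE (Submodule.mem_top (x := x))

/-- The completion of a local endomorphism whose closed fibre is finite and artinian is finite, and its
image together with the ring itself generates the completion. -/
theorem exists_completion_endo {A : Type u} [CommRing A] [IsNoetherianRing A] [IsLocalRing A] (φ : A →+* A)
    [IsLocalHom φ] {k : ℕ} (hk : maximalIdeal A ^ k ≤ (maximalIdeal A).map φ)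
    (hfin : Finite (A ⧸ maximalIdeal A ^ k)) :
    ∃ ψ : AdicCompletion (maximalIdeal A) A →+* AdicCompletion (maximalIdeal A) A,
      ψ.comp (algebraMap A _) = (algebraMap A _).comp φ ∧ ψ.Finite ∧
      ∀ {C : Type u} [CommRing C] (a b : AdicCompletion (maximalIdeal A) A →+* C),
        a.comp ψ = b.comp ψ → a.comp (algebraMap A _) = b.comp (algebraMap A _) → a = b := by
  let m := maximalIdeal A
  let B := AdicCompletion m A
  let ι : A →+* B := algebraMap A B
  have fg : m.FG := IsNoetherian.noetherian _
  let M : Ideal B := m.map ι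
  haveI : IsAdicComplete M B := AdicCompletion.isAdicComplete_self m fg
  have hφm : m ≤ m.comap φ := fun a ha =>
    (mem_maximalIdeal _).2 fun hu => (mem_maximalIdeal _).1 ha (isUnit_of_map_unit φ a hu)
  have hpow : ∀ n, m ^ n ≤ (m ^ n).comap φ := fun n => by
    rw [← Ideal.map_le_iff_le_comap, Ideal.map_pow]
    exact Ideal.pow_right_mono (Ideal.map_le_iff_le_comap.2 hφm) n
  let f : (n : ℕ) → B →+* A ⧸ m ^ n := fun n =>
    (Ideal.quotientMap (m ^ n) φ (hpow n)).comp (AdicCompletion.evalₐ m n).toRingHom
  have hf : ∀ {i n : ℕ} (hle : i ≤ n), (Ideal.Quotient.factorPow m hle).comp (f n) = f i := by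
    intro i n hle
    refine RingHom.ext fun x => ?_
    obtain ⟨g, rfl⟩ := AdicCompletion.mk_surjective m A x
    simp only [f, RingHom.comp_apply, AlgHom.toRingHom_eq_coe, RingHom.coe_coe, AdicCompletion.evalₐ_mk,
      Ideal.quotientMap_mk]
    show Ideal.Quotient.mk _ (φ (g n)) = Ideal.Quotient.mk _ (φ (g i))
    rw [Ideal.Quotient.eq, ← map_sub]
    refine hpow i ?_
    simpa using neg_mem (SModEq.sub_mem.1 (g.property hle))
  let ψ : B →+* B := AdicCompletion.liftRingHom m f hf
  have hψι : ψ.comp ι = ι.comp φ := RingHom.ext fun a => AdicCompletion.ext_evalₐ fun n => by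
    show AdicCompletion.evalₐ m n (ψ (algebraMap A B a)) = AdicCompletion.evalₐ m n (algebraMap A B (φ a))
    rw [AdicCompletion.evalₐ_liftRingHom, AlgHom.commutes]
    simp only [f, RingHom.comp_apply, AlgHom.toRingHom_eq_coe, RingHom.coe_coe, AlgHom.commutes]
    rfl
  have hψM : M.map ψ ≤ M := by
    rw [Ideal.map_map, hψι, ← Ideal.map_map]
    exact Ideal.map_mono (Ideal.map_le_iff_le_comap.2 hφm)
  -- every element is a constant modulo `ψ(M)`
  have key : ∀ x : B, ∃ a : A, x - ι a ∈ M.map ψ := by
    intro x
    obtain ⟨a, ha⟩ := Ideal.Quotient.mk_surjective (AdicCompletion.evalₐ m k x)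
    have h0 : AdicCompletion.evalₐ m k (x - ι a) = 0 := by
      rw [map_sub, show AdicCompletion.evalₐ m k (ι a) = Ideal.Quotient.mk _ a from AlgHom.commutes _ a, ha, sub_self]
    refine ⟨a, ?_⟩
    have h1 : x - ι a ∈ (AdicCompletion.eval m A k).ker := by
      show AdicCompletion.eval m A k (x - ι a) = 0
      refine (AdicCompletion.eval_apply ..).trans ?_
      refine (AdicCompletion.factor_evalₐ_eq_eval (I := m) (x - ι a) (by simp)).symm.trans ?_
      exact (congrArg _ h0).trans (map_zero _)
    rw [← AdicCompletion.pow_smul_top_eq_ker_eval fg] at h1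
    refine Submodule.smul_induction_on h1 (fun r hr y _ => ?_) fun y z hy hz => add_mem hy hz
    rw [Algebra.smul_def]
    refine Ideal.mul_mem_right _ _ ?_
    rw [Ideal.map_map, hψι, ← Ideal.map_map]
    exact Ideal.mem_map_of_mem ι (hk hr)
  haveI := hfin
  let r : A ⧸ m ^ k → B := fun t => ι (Function.surjInv Ideal.Quotient.mk_surjective t)
  haveI : IsHausdorff M B := inferInstance
  obtain ⟨h1, h2⟩ := finite_and_epi ψ M M hψM r fun x => by
    obtain ⟨a, ha⟩ := key x
    refine ⟨Ideal.Quotient.mk _ a, ?_⟩
    have hd : a - Function.surjInv Ideal.Quotient.mk_surjective (Ideal.Quotient.mk (m ^ k) a) ∈ m ^ k :=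
      Ideal.Quotient.eq.1 (Function.surjInv_eq Ideal.Quotient.mk_surjective _).symm
    rw [← sub_add_sub_cancel x (ι a), ← map_sub]
    refine add_mem ha ?_
    rw [Ideal.map_map, hψι, ← Ideal.map_map]
    exact Ideal.mem_map_of_mem ι (hk hd)
  exact ⟨ψ, hψι, h1, fun {C} _ a b ha hb => h2 a b ha fun t => RingHom.congr_fun hb _⟩

end Groth.Agent.EndoFin5
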