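import Groth.Agent.EndoFin5.Complete
import Groth.Agent.FibFlat.Stalk
import Groth.Agent.FormalFib6.Cplt

/-!
# Radicial endomorphisms at fixed closed points
-/

set_option autoImplicit false
set_option maxHeartbeats 1000000
set_option linter.style.haveILetI false
set_option backward.isDefEq.respectTransparency false
set_option backward.isDefEq.respectTransparency.types false

universe u

open CategoryTheory CategoryTheory.Limits AlgebraicGeometry IsLocalRing

namespace Groth.Agent.EndoFin5

/-- An injective closed self-map of a noetherian space is surjective. -/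
theorem surjective_of_injective_isClosedMap {T : Type u} [TopologicalSpace T] [TopologicalSpace.NoetherianSpace T]
    {h : T → T} (hi : Function.Injective h) (hc : IsClosedMap h) : Function.Surjective h := by
  have hcl : ∀ k, IsClosed (Set.range h^[k]) := fun k => by
    induction k with
    | zero => simp
    | succ k ih => rw [Function.iterate_succ', Set.range_comp]; exact hc _ ih
  obtain ⟨C, ⟨k, rfl⟩, hmin⟩ := (wellFounded_lt (α := TopologicalSpace.Closeds T)).has_min
    (Set.range fun k => (⟨Set.range h^[k], hcl k⟩ : TopologicalSpace.Closeds T)) ⟨_, 0, rfl⟩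
  intro t
  have hle : Set.range h^[k + 1] ⊆ Set.range h^[k] := by
    rw [Function.iterate_succ, Set.range_comp]
    exact Set.image_subset_range _ _
  have heq : Set.range h^[k] ⊆ Set.range h^[k + 1] := by
    by_contra hne
    exact hmin ⟨_, hcl (k + 1)⟩ ⟨k + 1, rfl⟩ ⟨hle, hne⟩
  obtain ⟨s, hs⟩ := heq ⟨t, rfl⟩
  rw [Function.iterate_succ_apply] at hs
  exact ⟨s, (hi.iterate k) hs⟩

theorem specMap_sm_fromSpecStalk {X Y : Scheme.{u}} (f : X ⟶ Y) (x : X) (y : Y) (h : f x = y) :
    Spec.map (CommRingCat.ofHom (FibFlat.sm f x y h)) ≫ Y.fromSpecStalk y = X.fromSpecStalk x ≫ f := by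
  subst h
  rw [FibFlat.sm_self]
  exact Scheme.SpecMap_stalkMap_fromSpecStalk f

variable {X : Scheme.{u}} [IsLocallyNoetherian X]

/-- The spectrum of the completed local ring at a point. -/
noncomputable def cplHom (y : X) :
    Spec (CommRingCat.of (AdicCompletion (maximalIdeal (X.presheaf.stalk y)) (X.presheaf.stalk y))) ⟶ X :=
  Spec.map (CommRingCat.ofHom (algebraMap (X.presheaf.stalk y) _)) ≫ X.fromSpecStalk y

/-- A radicial endomorphism is universally closed over the completion at a fixed point with finite residue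
field. -/
theorem universallyClosed_fixed (G : X ⟶ X) [LocallyOfFiniteType G] [UniversallyInjective G] (y : X)
    (hy : G y = y) [Finite (X.residueField y)] : UniversallyClosed (pullback.snd G (cplHom y)) := by
  let A := X.presheaf.stalk y
  let m := maximalIdeal A
  let B := AdicCompletion m A
  haveI : IsNoetherianRing B := FormalFib6.isNoetherianRing_adicCompletion A m
  let φ : A →+* A := FibFlat.sm G y y hy
  have hrad : m ≤ (m.map φ).radical := by
    rw [Ideal.radical_eq_sInf]
    refine le_sInf ?_
    rintro P ⟨hP, hPp⟩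
    haveI := hPp
    let p : Spec A := ⟨P, hPp⟩
    have h1 : Spec.map (CommRingCat.ofHom φ) p = closedPoint A := PrimeSpectrum.ext
      ((maximalIdeal.isMaximal A).eq_of_le (Ideal.IsPrime.ne_top inferInstance) (Ideal.map_le_iff_le_comap.1 hP)).symm
    have h2 : G (X.fromSpecStalk y p) = y := by
      rw [← Scheme.Hom.comp_apply, ← specMap_sm_fromSpecStalk G y y hy, Scheme.Hom.comp_apply]
      exact (congrArg (X.fromSpecStalk y) h1).trans Scheme.fromSpecStalk_closedPoint
    have h3 : X.fromSpecStalk y p = X.fromSpecStalk y (closedPoint A) := by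
      rw [Scheme.fromSpecStalk_closedPoint]
      exact G.injective (h2.trans hy.symm)
    have h4 : p = closedPoint A := (X.fromSpecStalk y).isEmbedding.injective h3
    exact (congrArg PrimeSpectrum.asIdeal h4).ge
  obtain ⟨k, hk⟩ := (Ideal.exists_pow_le_of_le_radical_of_fg hrad (IsNoetherian.noetherian _) :
    ∃ k, m ^ k ≤ m.map φ)
  haveI : Finite (A ⧸ m) := inferInstanceAs (Finite (X.residueField y))
  obtain ⟨ψ, hψ, hfin, hepi⟩ := exists_completion_endo φ hk (Ideal.finite_quotient_pow (IsNoetherian.noetherian _) k)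
  let ι : Spec (CommRingCat.of B) ⟶ X := cplHom y
  let h : Spec (CommRingCat.of B) ⟶ Spec (CommRingCat.of B) := Spec.map (CommRingCat.ofHom ψ)
  haveI : IsFinite h := (IsFinite.SpecMap_iff _).2 hfin
  have hw : ι ≫ G = h ≫ ι := by
    show (Spec.map _ ≫ X.fromSpecStalk y) ≫ G = Spec.map _ ≫ Spec.map _ ≫ X.fromSpecStalk y
    rw [Category.assoc, ← specMap_sm_fromSpecStalk G y y hy, ← Spec.map_comp_assoc, ← Spec.map_comp_assoc,
      ← CommRingCat.ofHom_comp, ← CommRingCat.ofHom_comp, hψ]
  let j : Spec (CommRingCat.of B) ⟶ pullback G ι := pullback.lift ι h hw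
  haveI : Mono j := by
    refine ⟨fun {Z} a b hab => ?_⟩
    have e1 : (a ≫ Spec.map (CommRingCat.ofHom (algebraMap A B))) ≫ X.fromSpecStalk y =
        (b ≫ Spec.map (CommRingCat.ofHom (algebraMap A B))) ≫ X.fromSpecStalk y := by
      have := congrArg (fun q => q ≫ pullback.fst G ι) hab
      simp only [j, Category.assoc, pullback.lift_fst] at this
      simpa only [ι, cplHom, Category.assoc] using this
    have e2 : a ≫ h = b ≫ h := by
      have := congrArg (fun q => q ≫ pullback.snd G ι) hab
      simpa only [j, Category.assoc, pullback.lift_snd] using this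
    rw [cancel_mono] at e1
    let Φ : (Z ⟶ Spec (CommRingCat.of B)) → (B →+* Γ(Z, ⊤)) := fun q =>
      ((Scheme.ΓSpecIso (CommRingCat.of B)).inv ≫ Scheme.Γ.map q.op).hom
    have hnat : ∀ {R : CommRingCat.{u}} (ρ : R ⟶ CommRingCat.of B) (q : Z ⟶ Spec (CommRingCat.of B)),
        (Φ q).comp ρ.hom = ((Scheme.ΓSpecIso R).inv ≫ Scheme.Γ.map (q ≫ Spec.map ρ).op).hom := fun {R} ρ q => by
      show (ρ ≫ (Scheme.ΓSpecIso (CommRingCat.of B)).inv ≫ Scheme.Γ.map q.op).hom = _
      rw [op_comp, Functor.map_comp, Scheme.Γ_map_op, Scheme.Γ_map_op, Scheme.ΓSpecIso_inv_naturality_assoc]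
    have e3 : Φ a = Φ b := hepi (Φ a) (Φ b)
      (by rw [show ψ = (CommRingCat.ofHom ψ).hom from rfl, hnat, hnat, e2])
      (by rw [show algebraMap A B = (CommRingCat.ofHom (algebraMap A B)).hom from rfl, hnat, hnat, e1])
    exact ext_to_Spec (CommRingCat.hom_ext e3)
  have hj : j ≫ pullback.snd G ι = h := pullback.lift_snd _ _ _
  have hsi : Function.Injective (pullback.snd G ι) := haveI : UniversallyInjective (pullback.snd G ι) := MorphismProperty.pullback_snd (P := @UniversallyInjective) _ _ ‹_›
    (pullback.snd G ι).injective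
  have hinj : Function.Injective h := fun t t' htt => j.injective (hsi (by
    rw [← Scheme.Hom.comp_apply, ← Scheme.Hom.comp_apply, hj]; exact htt))
  have hsur : Function.Surjective h := surjective_of_injective_isClosedMap hinj h.isClosedMap
  haveI : Surjective j := ⟨fun p => by
    obtain ⟨t, ht⟩ := hsur (pullback.snd G ι p)
    exact ⟨t, hsi (by rw [← Scheme.Hom.comp_apply, hj, ht])⟩⟩
  haveI : UniversallyClosed (j ≫ pullback.snd G ι) := by rw [hj]; infer_instance
  exact UniversallyClosed.of_comp_surjective j (pullback.snd G ι)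

end Groth.Agent.EndoFin5
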