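import Groth.Agent.EndoFin5.Fixed
import Groth.Agent.MonoEndo.Basic
import Groth.Agent.GrpSchLib.FieldSmooth
import Groth.Agent.SpecLib.Constr

/-!
# Radicial endomorphisms of schemes of finite type over finitely generated rings (EGA IV 10.4.11)
-/

set_option autoImplicit false
set_option maxHeartbeats 1000000
set_option linter.style.haveILetI false
set_option backward.isDefEq.respectTransparency false
set_option backward.isDefEq.respectTransparency.types false

universe u

open CategoryTheory CategoryTheory.Limits AlgebraicGeometry IsLocalRing TopologicalSpace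

namespace Groth.Agent.EndoFin5

variable {X : Scheme.{u}} (g : X ⟶ X)

/-- The iterates. -/
noncomputable def iter : ℕ → (X ⟶ X)
  | 0 => 𝟙 X
  | k + 1 => iter k ≫ g

theorem iter_apply (k : ℕ) (x : X) : iter g k x = g.base^[k] x := by
  induction k with
  | zero => rfl
  | succ k ih =>
    rw [Function.iterate_succ_apply']
    show (iter g k ≫ g) x = _
    rw [Scheme.Hom.comp_apply, ih]

instance iter_lft [LocallyOfFiniteType g] : ∀ k, LocallyOfFiniteType (iter g k)
  | 0 => inferInstanceAs (LocallyOfFiniteType (𝟙 X))
  | k + 1 => by haveI := iter_lft k; exact inferInstanceAs (LocallyOfFiniteType (iter g k ≫ g))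

instance iter_ui [UniversallyInjective g] : ∀ k, UniversallyInjective (iter g k)
  | 0 => inferInstanceAs (UniversallyInjective (𝟙 X))
  | k + 1 => by haveI := iter_ui k; exact MorphismProperty.comp_mem (W := @UniversallyInjective) (iter g k) g ‹_› ‹_›

instance iter_surj [Surjective g] : ∀ k, Surjective (iter g k)
  | 0 => inferInstanceAs (Surjective (𝟙 X))
  | k + 1 => by haveI := iter_surj k; exact inferInstanceAs (Surjective (iter g k ≫ g))

theorem exists_periodic [UniversallyInjective g] {R : CommRingCat.{u}} [Algebra.FiniteType ℤ R] (f : X ⟶ Spec R)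
    [LocallyOfFiniteType f] [CompactSpace ↥X] (x : X) [Finite (X.residueField x)] :
    ∃ n, g.base^[n + 1] x = x := by
  haveI : Finite (Spec (CommRingCat.of (X.residueField x)) ⟶ X) :=
    MonoEndo.finite_hom_of_locallyOfFiniteType f _
  let F : (Spec (CommRingCat.of (X.residueField x)) ⟶ X) → (Spec (CommRingCat.of (X.residueField x)) ⟶ X) :=
    fun q => q ≫ g
  have hF : Function.Injective F :=
    ((tfae_universallyInjective g).out 0 1 rfl rfl).mp ‹UniversallyInjective g› (X.residueField x)
  obtain ⟨n, hn, hn'⟩ := hF.mem_periodicPts (X.fromSpecResidueField x)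
  have hpt : ∀ m, (F^[m] (X.fromSpecResidueField x)) (closedPoint _) = g.base^[m] x := by
    intro m
    induction m with
    | zero => exact Scheme.fromSpecResidueField_apply x _
    | succ m ih =>
      rw [Function.iterate_succ_apply', Function.iterate_succ_apply']
      show (F^[m] (X.fromSpecResidueField x) ≫ g) _ = _
      rw [Scheme.Hom.comp_apply, ih]
  obtain ⟨m, rfl⟩ : ∃ m, n = m + 1 := ⟨n - 1, by omega⟩
  refine ⟨m, ?_⟩
  rw [← hpt (m + 1), hn'.eq]
  exact Scheme.fromSpecResidueField_apply x _

theorem exists_point_over (y : X) [IsLocallyNoetherian X] : ∃ t, cplHom y t = y := by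
  let A := X.presheaf.stalk y
  let B := AdicCompletion (maximalIdeal A) A
  have hne : (maximalIdeal A).map (algebraMap A B) ≠ ⊤ := fun htop => by
    have h := congrArg (Ideal.map (AdicCompletion.evalOneₐ (maximalIdeal A)).toRingHom) htop
    rw [Ideal.map_map, AdicCompletion.evalOneₐ_comp_algebraMap_eq_mk, Ideal.map_quotient_self, Ideal.map_top] at h
    exact bot_ne_top (α := Ideal (A ⧸ maximalIdeal A)) h
  obtain ⟨M, hM, hle⟩ := Ideal.exists_le_maximal _ hne
  refine ⟨⟨M, hM.isPrime⟩, ?_⟩
  show (Spec.map _ ≫ X.fromSpecStalk y) _ = y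
  rw [Scheme.Hom.comp_apply]
  refine (congrArg (X.fromSpecStalk y) ?_).trans Scheme.fromSpecStalk_closedPoint
  exact PrimeSpectrum.ext ((maximalIdeal.isMaximal A).eq_of_le (hM.isPrime.comap _).ne_top
    (Ideal.map_le_iff_le_comap.1 hle)).symm

/-- A radicial endomorphism over a finitely generated ring is finite and surjective. -/
theorem isFinite_and_surjective [UniversallyInjective g] {R : CommRingCat.{u}} [Algebra.FiniteType ℤ R]
    (f : X ⟶ Spec R) [LocallyOfFiniteType f] [QuasiCompact f] [QuasiSeparated f] (hg : g ≫ f = f) :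
    IsFinite g ∧ Surjective g := by
  haveI := ZetaLib.isJacobsonRing_int
  haveI : IsJacobsonRing R := isJacobsonRing_of_finiteType (A := ℤ)
  haveI : IsNoetherianRing R := Algebra.FiniteType.isNoetherianRing ℤ R
  haveI : JacobsonSpace ↥X := LocallyOfFiniteType.jacobsonSpace f
  haveI : IsLocallyNoetherian X := LocallyOfFiniteType.isLocallyNoetherian f
  haveI : CompactSpace ↥X := QuasiCompact.compactSpace_of_compactSpace f
  haveI : AlgebraicGeometry.IsNoetherian X := {}
  haveI : LocallyOfFiniteType g := by
    haveI : LocallyOfFiniteType (g ≫ f) := hg.symm ▸ ‹LocallyOfFiniteType f›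
    exact locallyOfFiniteType_of_comp g f
  haveI : LocallyOfFinitePresentation g := inferInstance
  haveI : QuasiCompact g := inferInstance
  have hper : ∀ x : X, IsClosed ({x} : Set X) → ∃ n, g.base^[n + 1] x = x := fun x hx => by
    haveI := MonoEndo.finite_residueField f hx
    exact exists_periodic g f x
  haveI : Surjective g := by
    refine ⟨Set.range_eq_univ.1 ?_⟩
    by_contra hne
    have hc : Topology.IsConstructible (Set.range g) := by
      rw [← Set.image_univ]; exact g.isConstructible_image Topology.IsConstructible.univ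
    obtain ⟨m, L, hL, hLe⟩ := SpecLib.exists_lc_of_isConstructible hc.compl
    obtain ⟨x, hx⟩ := Set.nonempty_compl.2 hne
    rw [hLe] at hx
    obtain ⟨i, hi⟩ := Set.mem_iUnion.1 hx
    obtain ⟨y, hyL, hy'⟩ := nonempty_inter_closedPoints ⟨x, hi⟩ (hL i)
    have hy : y ∈ (Set.range g)ᶜ := hLe.symm ▸ Set.mem_iUnion.2 ⟨i, hyL⟩
    obtain ⟨n, hn⟩ := hper y hy'
    rw [Function.iterate_succ_apply'] at hn
    exact hy ⟨_, hn⟩
  refine ⟨?_, inferInstance⟩
  haveI : IsSeparated g := ⟨by
    haveI : Surjective (pullback.diagonal g) := (UniversallyInjective.iff_diagonal g).1 ‹_›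
    exact IsClosedImmersion.of_isPreimmersion _
      (by rw [(pullback.diagonal g).surjective.range_eq]; exact isClosed_univ)⟩
  haveI : LocallyQuasiFinite g := LocallyQuasiFinite.of_injective g.injective
  have huc : ∀ y : X, IsClosed ({y} : Set X) → UniversallyClosed (pullback.snd g (cplHom y)) := by
    intro y hy
    haveI := MonoEndo.finite_residueField f hy
    obtain ⟨n, hn⟩ := hper y hy
    haveI := universallyClosed_fixed (iter g (n + 1)) y (by rw [iter_apply]; exact hn)
    let r : pullback (iter g (n + 1)) (cplHom y) ⟶ pullback g (cplHom y) :=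
      pullback.lift (pullback.fst _ _ ≫ iter g n) (pullback.snd _ _)
        (by rw [Category.assoc]; exact pullback.condition)
    have sq : IsPullback (pullback.fst (iter g (n + 1)) (cplHom y)) r (iter g n) (pullback.fst g (cplHom y)) := by
      refine IsPullback.of_bot (h₃₁ := cplHom y) (v₂₂ := g) (v₂₁ := pullback.snd g (cplHom y)) ?_ ?_ ?_
      · rw [show r ≫ pullback.snd g (cplHom y) = pullback.snd (iter g (n + 1)) (cplHom y) from pullback.lift_snd _ _ _]
        exact IsPullback.of_hasPullback (iter g (n + 1)) (cplHom y)
      · exact (pullback.lift_fst _ _ _).symm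
      · exact IsPullback.of_hasPullback g (cplHom y)
    haveI : Surjective r := MorphismProperty.of_isPullback sq inferInstance
    haveI : UniversallyClosed (r ≫ pullback.snd g (cplHom y)) := by
      rw [show r ≫ pullback.snd g (cplHom y) = pullback.snd (iter g (n + 1)) (cplHom y) from pullback.lift_snd _ _ _]
      infer_instance
    exact UniversallyClosed.of_comp_surjective r _
  let u := g.toNormalization
  let π := g.fromNormalization
  have hu : u ≫ π = g := g.toNormalization_fromNormalization
  haveI : QuasiCompact π := inferInstance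
  haveI : CompactSpace ↥g.normalization := QuasiCompact.compactSpace_of_compactSpace π
  have hclosed : IsClosed (Set.range u) := by
    by_contra hnc
    obtain ⟨a, ha, ha'⟩ : ∃ a ∈ closure (Set.range u), a ∉ Set.range u := by
      by_contra hno
      push Not at hno
      exact hnc (closure_subset_iff_isClosed.1 hno)
    obtain ⟨x, hwa⟩ : ∃ x : X, u x ⤳ a := by
      have hcov : Set.range u ⊆ ⋃ C ∈ irreducibleComponents ↥X, closure (u '' C) := by
        rintro _ ⟨x, rfl⟩
        exact Set.mem_iUnion₂.2 ⟨irreducibleComponent x, irreducibleComponent_mem_irreducibleComponents x,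
          subset_closure ⟨x, mem_irreducibleComponent, rfl⟩⟩
      have hcl : IsClosed (⋃ C ∈ irreducibleComponents ↥X, closure (u '' C)) :=
        NoetherianSpace.finite_irreducibleComponents.isClosed_biUnion fun C _ => isClosed_closure
      obtain ⟨C, hC, haC⟩ := Set.mem_iUnion₂.1 (closure_minimal hcov hcl ha)
      refine ⟨hC.1.genericPoint, ?_⟩
      have hg : IsGenericPoint hC.1.genericPoint C := by
        simpa [(isClosed_of_mem_irreducibleComponents C hC).closure_eq] using hC.1.isGenericPoint_genericPoint_closure
      exact ((hg.image u.continuous).specializes haC)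
    obtain ⟨z, hz, hzc⟩ := (isClosed_closure (s := {a})).exists_closed_singleton ⟨a, subset_closure rfl⟩
    have haz : a ⤳ z := specializes_iff_mem_closure.2 hz
    have hzu : z ∉ Set.range u := fun h => ha' (haz.mem_open u.isOpenEmbedding.isOpen_range h)
    let y := π z
    have hy : IsClosed ({y} : Set X) := by simpa using π.isClosedMap _ hzc
    haveI := huc y hy
    obtain ⟨t, ht⟩ := exists_point_over y
    haveI : Flat (cplHom y) := by
      haveI : Flat (Spec.map (CommRingCat.ofHom (algebraMap (X.presheaf.stalk y)
          (AdicCompletion (maximalIdeal (X.presheaf.stalk y)) (X.presheaf.stalk y))))) := by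
        rw [Flat.SpecMap_iff]
        exact RingHom.flat_algebraMap_iff.2 (AdicCompletion.flat_of_isNoetherian _)
      haveI := GrpSchLib.flat_fromSpecStalk y
      exact inferInstanceAs (Flat (Spec.map _ ≫ X.fromSpecStalk y))
    let p : pullback g (cplHom y) ⟶ pullback π (cplHom y) :=
      pullback.lift (pullback.fst _ _ ≫ u) (pullback.snd _ _) (by rw [Category.assoc, hu]; exact pullback.condition)
    have sqp : IsPullback (pullback.fst g (cplHom y)) p u (pullback.fst π (cplHom y)) := by
      refine IsPullback.of_bot (h₃₁ := cplHom y) (v₂₂ := π) (v₂₁ := pullback.snd π (cplHom y)) ?_ ?_ ?_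
      · rw [hu, show p ≫ pullback.snd π (cplHom y) = pullback.snd g (cplHom y) from pullback.lift_snd _ _ _]
        exact IsPullback.of_hasPullback g (cplHom y)
      · exact (pullback.lift_fst _ _ _).symm
      · exact IsPullback.of_hasPullback π (cplHom y)
    haveI : UniversallyClosed (p ≫ pullback.snd π (cplHom y)) := by
      rw [show p ≫ pullback.snd π (cplHom y) = pullback.snd g (cplHom y) from pullback.lift_snd _ _ _]
      infer_instance
    haveI : UniversallyClosed p := .of_comp_of_isSeparated p (pullback.snd π (cplHom y))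
    obtain ⟨c, hc1, hc2⟩ := Scheme.Pullback.exists_preimage_pullback (f := π) (g := cplHom y) z t ht.symm
    haveI : Flat (pullback.fst π (cplHom y)) := MorphismProperty.pullback_fst _ _ ‹_›
    obtain ⟨c', hc', hc'x⟩ := (Flat.generalizingMap (pullback.fst π (cplHom y))) (show u x ⤳ pullback.fst π (cplHom y) c by
      rw [hc1]; exact hwa.trans haz)
    obtain ⟨d, -, hd⟩ := Scheme.exists_preimage_of_isPullback sqp x c' hc'x.symm
    obtain ⟨e, he⟩ := hc'.mem_closed p.isClosedMap.isClosed_range ⟨d, hd⟩
    refine hzu ⟨pullback.fst g (cplHom y) e, ?_⟩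
    rw [← hc1, ← he, ← Scheme.Hom.comp_apply, ← Scheme.Hom.comp_apply, sqp.w]
  haveI : IsClosedImmersion u := IsClosedImmersion.of_isPreimmersion u hclosed
  haveI : UniversallyClosed g := by rw [← hu]; infer_instance
  haveI : IsProper g := {}
  exact IsFinite.of_isProper_of_locallyQuasiFinite g

end Groth.Agent.EndoFin5
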